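import Cfsg.Agent.H368.RC.CB
import Cfsg.Agent.H368.RC.Num
import Cfsg.Agent.H338.RC.IrrComp
import Cfsg.Agent.H514.DP.SLRes

/-!
# S3510, row A, box CB: `no_prime` (helper368)

No cover of `PSL_n(q)`-sets, `n ≥ 3` prime, by linear elements which are all irreducible: character bound.
-/

set_option autoImplicit false
open Cfsg

namespace Cfsg.Agent.H368.RC

open MulAction Cfsg.Agent.H106.RC Cfsg.Agent.H202.RC Module Cfsg.Agent.H514.DP Cfsg.Agent.H338.RC

section lin

variable {F V G Ω : Type} [Field F] [AddCommGroup V] [Module F V] [Group G] [MulAction G Ω] {N : Subgroup G}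
  {κ : SLV F V →* G}

/-- the elements of `G` induced by linear maps -/
def linG (κ : SLV F V →* G) : Subgroup G where
  carrier := {y | ∃ b : V ≃ₗ[F] V, ∀ s : SLV F V, y * κ s * y⁻¹ = κ (cj b s)}
  one_mem' := ⟨1, fun s => by simp⟩
  mul_mem' := by
    rintro y z ⟨b, hb⟩ ⟨c, hc⟩
    refine ⟨b * c, fun s => ?_⟩
    rw [cj_mul, ← hb, ← hc]
    group
  inv_mem' := by
    rintro y ⟨b, hb⟩
    refine ⟨b⁻¹, fun s => ?_⟩
    have h1 := hb (cj b⁻¹ s)
    rw [← cj_mul, mul_inv_cancel, cj_one] at h1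
    rw [← h1]
    group

theorem mem_linG {y : G} : y ∈ linG κ ↔ ∃ b : V ≃ₗ[F] V, ∀ s : SLV F V, y * κ s * y⁻¹ = κ (cj b s) := Iff.rfl

theorem le_linG (fr : Frame Ω N κ) : N ≤ linG κ := by
  intro y hy
  rw [← fr.range] at hy
  obtain ⟨t, rfl⟩ := hy
  exact ⟨t, fun s => by rw [cj_sl, map_mul, map_mul, map_inv]⟩

/-- two linear lifts differ by a scalar -/
theorem lift_unique (fr : Frame Ω N κ) (hn : 2 ≤ finrank F V) {y : G} {b b' : V ≃ₗ[F] V}
    (hb : ∀ s : SLV F V, y * κ s * y⁻¹ = κ (cj b s)) (hb' : ∀ s : SLV F V, y * κ s * y⁻¹ = κ (cj b' s)) :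
    ∃ c : F, ∀ v, b v = c • b' v := by
  obtain ⟨c, hc⟩ := scalar_of_comm (L := F) fr hn (y := 1) (f := b'⁻¹ * b) (by
    intro s
    have h1 := hb' (cj (b'⁻¹ * b) s)
    rw [← cj_mul, ← mul_assoc, mul_inv_cancel, one_mul, ← hb s] at h1
    have h2 : y * κ (cj (b'⁻¹ * b) s) = y * κ s := mul_right_cancel h1
    rw [mul_left_cancel h2]
    group) (fun c v => map_smul _ c v) (fun m _ => by simp)
  refine ⟨c, fun v => ?_⟩
  have h1 := congrArg b' (hc v)
  rw [map_smul] at h1
  have h2 : b' ((b'⁻¹ * b) v) = b v := b'.apply_symm_apply (b v)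
  rw [← h2, h1]

/-- the lift determines the element -/
theorem eq_of_lift (fr : Frame Ω N κ) {y z : G} {b : V ≃ₗ[F] V}
    (hy : ∀ s : SLV F V, y * κ s * y⁻¹ = κ (cj b s)) (hz : ∀ s : SLV F V, z * κ s * z⁻¹ = κ (cj b s)) : y = z := by
  have h1 : z⁻¹ * y ∈ Subgroup.centralizer (N : Set G) := by
    rw [Subgroup.mem_centralizer_iff]
    intro m hm
    rw [SetLike.mem_coe, ← fr.range] at hm
    obtain ⟨s, rfl⟩ := hm
    have h2 : y * κ s * y⁻¹ = z * κ s * z⁻¹ := by rw [hy, hz]
    calc κ s * (z⁻¹ * y) = z⁻¹ * (z * κ s * z⁻¹) * y := by group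
      _ = z⁻¹ * (y * κ s * y⁻¹) * y := by rw [h2]
      _ = z⁻¹ * y * κ s := by group
  rw [fr.env.cent, Subgroup.mem_bot] at h1
  exact (inv_mul_eq_one.1 h1).symm

/-- scalars as linear equivalences -/
noncomputable def sc (F V : Type) [Field F] [AddCommGroup V] [Module F V] (c : {c : F // c ≠ 0}) : V ≃ₗ[F] V :=
  LinearEquiv.smulOfNeZero F V c.1 c.2

theorem sc_apply (c : {c : F // c ≠ 0}) (v : V) : sc F V c v = c.1 • v := rfl

/-- centralisers in `linG κ` -/
theorem card_cent_mul [Finite F] [Finite V] (fr : Frame Ω N κ) (hn : 2 ≤ finrank F V) {x : G} {a : V ≃ₗ[F] V}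
    (ha : ∀ s : SLV F V, x * κ s * x⁻¹ = κ (cj a s)) :
    Nat.card {y : linG κ // (y : G) * x = x * y} * (Nat.card F - 1) ≤
      Nat.card {b : V ≃ₗ[F] V // ∃ c : F, ∀ v, b (a v) = c • a (b v)} := by
  classical
  have hc : Nat.card {c : F // c ≠ 0} = Nat.card F - 1 := by
    have : Fintype F := Fintype.ofFinite F
    rw [Nat.card_eq_fintype_card, Nat.card_eq_fintype_card, Fintype.card_subtype_compl, Fintype.card_subtype_eq]
  rw [← hc, ← Nat.card_prod]
  have hfin : Finite (V ≃ₗ[F] V) := Finite.of_injective (fun b => (b : V → V)) fun b b' h => LinearEquiv.ext (congrFun h)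
  obtain ⟨v₀, hv₀⟩ : ∃ v : V, v ≠ 0 := by
    by_contra hcon
    push Not at hcon
    have : Subsingleton V := ⟨fun a b => by rw [hcon a, hcon b]⟩
    rw [finrank_zero_of_subsingleton] at hn
    omega
  choose b hb using fun y : linG κ => mem_linG.1 y.2
  have key : ∀ y : {y : linG κ // (y : G) * x = x * y}, ∃ c : F, ∀ v, b y.1 (a v) = c • a (b y.1 v) := by
    intro y
    refine lift_unique (b := b y.1 * a) (b' := a * b y.1) fr hn (y := (y.1 : G) * x) ?_ ?_
    · intro s
      rw [cj_mul, ← hb, ← ha]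
      group
    · intro s
      rw [cj_mul, ← ha, ← hb, y.2]
      group
  refine Nat.card_le_card_of_injective (fun p => ⟨sc F V p.2 * b p.1.1, ?_⟩) ?_
  · obtain ⟨c, hc⟩ := key p.1
    refine ⟨c, fun v => ?_⟩
    change p.2.1 • b p.1.1 (a v) = c • a (p.2.1 • b p.1.1 v)
    rw [hc, map_smul, smul_comm]
  · rintro ⟨y, c⟩ ⟨y', c'⟩ h
    have h1 : ∀ v, c.1 • b y.1 v = c'.1 • b y'.1 v := fun v =>
      congrArg (fun f : {b : V ≃ₗ[F] V // ∃ c : F, ∀ v, b (a v) = c • a (b v)} => f.1 v) h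
    have hcj : ∀ (c : {c : F // c ≠ 0}) (y : linG κ) (s : SLV F V), (y : G) * κ s * (y : G)⁻¹ = κ (cj (sc F V c * b y) s) := by
      intro c y s
      rw [hb]
      congr 1
      symm
      apply cj_eq
      intro v
      change (cj (b y) s : V ≃ₗ[F] V) (c.1 • b y v) = c.1 • b y ((s : V ≃ₗ[F] V) v)
      rw [map_smul, cj_apply]
    have h2 : sc F V c * b y.1 = sc F V c' * b y'.1 := LinearEquiv.ext h1
    have h3 : (y.1 : G) = y'.1 := eq_of_lift fr (hcj c y.1) (by rw [h2]; exact hcj c' y'.1)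
    have h4 : y = y' := Subtype.ext (Subtype.ext h3)
    subst h4
    have h5 : c = c' := by
      apply Subtype.ext
      have h6 := h1 v₀
      have h7 : b y.1 v₀ ≠ 0 := fun h0 => hv₀ ((b y.1).map_eq_zero_iff.1 h0)
      rw [← sub_eq_zero, ← sub_smul, smul_eq_zero] at h6
      rcases h6 with h6 | h6
      · exact sub_eq_zero.1 h6
      · exact (h7 h6).elim
    rw [h5]

/-- semicommuting maps of an irreducible map -/
theorem card_semi [Finite F] [Finite V] {a : V ≃ₗ[F] V}
    (hirr : ∀ W : Submodule F V, (∀ w ∈ W, a w ∈ W) → W = ⊥ ∨ W = ⊤) {n r : ℕ} (hn : finrank F V = n) (hn2 : 2 ≤ n)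
    (hnp : n.Prime) (hr : r.Prime) {μ : F} (hμ : ∀ v, (a ^ r) v = μ • v) :
    Nat.card {b : V ≃ₗ[F] V // ∃ c : F, ∀ v, b (a v) = c • a (b v)} ≤
      (Nat.card F ^ n - 1) * (if r = n then n else 1) := by
  classical
  have hfin : Finite (V ≃ₗ[F] V) := Finite.of_injective (fun b => (b : V → V)) fun b b' h => LinearEquiv.ext (congrFun h)
  have hfd : FiniteDimensional F V := Module.finite_of_finrank_pos (by omega)
  obtain ⟨v₀, hv₀⟩ : ∃ v : V, v ≠ 0 := by
    by_contra hcon
    push Not at hcon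
    have : Subsingleton V := ⟨fun a b => by rw [hcon a, hcon b]⟩
    rw [finrank_zero_of_subsingleton] at hn
    omega
  set m := if r = n then n else 1 with hm
  have hm0 : 0 < m := by
    rw [hm]
    split_ifs <;> omega
  have hV : Nat.card {v : V // v ≠ 0} = Nat.card F ^ n - 1 := by
    have : Fintype V := Fintype.ofFinite V
    rw [← hn, ← Module.natCard_eq_pow_finrank (K := F) (V := V), Nat.card_eq_fintype_card, Nat.card_eq_fintype_card,
      Fintype.card_subtype_compl, Fintype.card_subtype_eq]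
  have hC : Nat.card {c : F // c ^ m = 1} ≤ m := by
    have : Fintype F := Fintype.ofFinite F
    rw [Nat.card_eq_fintype_card, Fintype.card_subtype]
    refine le_trans (Finset.card_le_card (t := (Polynomial.nthRoots m (1 : F)).toFinset) ?_)
      ((Multiset.toFinset_card_le _).trans (Polynomial.card_nthRoots m 1))
    intro c hc
    rw [Multiset.mem_toFinset, Polynomial.mem_nthRoots hm0]
    exact (Finset.mem_filter.1 hc).2
  have hdet : ∀ (b : V ≃ₗ[F] V) (c : F), (∀ v, b (a v) = c • a (b v)) → c ^ n = 1 := by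
    intro b c h
    have h1 : (b : V →ₗ[F] V) ∘ₗ (a : V →ₗ[F] V) = c • ((a : V →ₗ[F] V) ∘ₗ (b : V →ₗ[F] V)) := LinearMap.ext h
    have h2 := congrArg LinearMap.det h1
    rw [LinearMap.det_smul, hn, LinearMap.det_comp, LinearMap.det_comp] at h2
    have ha0 : LinearMap.det (a : V →ₗ[F] V) ≠ 0 := (LinearEquiv.isUnit_det' a).ne_zero
    have hb0 : LinearMap.det (b : V →ₗ[F] V) ≠ 0 := (LinearEquiv.isUnit_det' b).ne_zero
    have h3 : (c ^ n - 1) * (LinearMap.det (a : V →ₗ[F] V) * LinearMap.det (b : V →ₗ[F] V)) = 0 := by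
      rw [sub_mul, ← h2]
      ring
    rcases mul_eq_zero.1 h3 with h4 | h4
    · exact sub_eq_zero.1 h4
    · exact (mul_ne_zero ha0 hb0 h4).elim
  have hpw : ∀ (b : V ≃ₗ[F] V) (c : F), (∀ v, b (a v) = c • a (b v)) → c ^ r = 1 := by
    intro b c h
    have h1 : ∀ (k : ℕ) v, b ((a ^ k) v) = c ^ k • (a ^ k) (b v) := by
      intro k
      induction k with
      | zero => intro v; simp
      | succ k ih =>
        intro v
        have e1 : (a ^ (k + 1)) v = a ((a ^ k) v) := by rw [pow_succ']; rfl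
        have e2 : (a ^ (k + 1)) (b v) = a ((a ^ k) (b v)) := by rw [pow_succ']; rfl
        rw [e1, e2, h, ih, map_smul, smul_smul, pow_succ']
    have h2 := h1 r v₀
    rw [hμ, hμ, map_smul, smul_smul] at h2
    have hbv : b v₀ ≠ 0 := fun h0 => hv₀ (b.map_eq_zero_iff.1 h0)
    have hμ0 : μ ≠ 0 := by
      rintro rfl
      have h3 := hμ v₀
      rw [zero_smul] at h3
      exact hv₀ ((a ^ r).map_eq_zero_iff.1 h3)
    rw [← sub_eq_zero, ← sub_smul, smul_eq_zero] at h2
    rcases h2 with h2 | h2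
    · have h4 : (c ^ r - 1) * μ = 0 := by
        rw [sub_mul, one_mul, ← neg_eq_zero]
        rw [← h2]
        ring
      rcases mul_eq_zero.1 h4 with h5 | h5
      · exact sub_eq_zero.1 h5
      · exact (hμ0 h5).elim
    · exact (hbv h2).elim
  have hcm : ∀ (b : V ≃ₗ[F] V) (c : F), (∀ v, b (a v) = c • a (b v)) → c ^ m = 1 := by
    intro b c h
    rw [hm]
    split_ifs with hrn
    · exact hdet b c h
    · rw [pow_one]
      have hcop : Nat.Coprime r n := (Nat.coprime_primes hr hnp).2 hrn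
      have h1 : orderOf c ∣ 1 := by
        rw [← hcop]
        exact Nat.dvd_gcd (orderOf_dvd_of_pow_eq_one (hpw b c h)) (orderOf_dvd_of_pow_eq_one (hdet b c h))
      exact orderOf_eq_one_iff.1 (Nat.dvd_one.1 h1)
  choose c hc using fun b : {b : V ≃ₗ[F] V // ∃ c : F, ∀ v, b (a v) = c • a (b v)} => b.2
  have hinj : Function.Injective (fun b : {b : V ≃ₗ[F] V // ∃ c : F, ∀ v, b (a v) = c • a (b v)} =>
      ((⟨b.1 v₀, fun h0 => hv₀ (b.1.map_eq_zero_iff.1 h0)⟩ : {v : V // v ≠ 0}),
        (⟨c b, hcm b.1 (c b) (hc b)⟩ : {c : F // c ^ m = 1}))) := by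
    intro b b' h
    have h1 : b.1 v₀ = b'.1 v₀ := congrArg (fun p => p.1.1) h
    have h2 : c b = c b' := congrArg (fun p => p.2.1) h
    let W : Submodule F V := LinearMap.eqLocus (b.1 : V →ₗ[F] V) (b'.1 : V →ₗ[F] V)
    have hW : W = ⊥ ∨ W = ⊤ := by
      apply hirr
      intro w hw
      have h3 : b.1 w = b'.1 w := hw
      change b.1 (a w) = b'.1 (a w)
      rw [hc, hc, h2, h3]
    rcases hW with hW | hW
    · exfalso
      have h3 : v₀ ∈ W := h1
      rw [hW] at h3
      exact hv₀ h3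
    · apply Subtype.ext
      apply LinearEquiv.ext
      intro v
      have h3 : v ∈ W := by
        rw [hW]
        trivial
      exact h3
  have h1 := Nat.card_le_card_of_injective _ hinj
  rw [Nat.card_prod, hV] at h1
  exact h1.trans (Nat.mul_le_mul_left _ hC)

end lin

/-- the order of a non-`F`-element of prime order modulo `F` -/
theorem dvd_sum {F E : Type} [Field F] [Field E] [Algebra F E] [Finite E] {n r : ℕ} (hn : finrank F E = n)
    (hr : r.Prime) {e : E} (he : e ≠ 0) {μ : F} (h1 : e ^ r = algebraMap F E μ) (h2 : ∀ c : F, algebraMap F E c ≠ e) :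
    r ∣ ∑ k ∈ Finset.range n, Nat.card F ^ k := by
  have hF : Finite F := Finite.of_injective _ (algebraMap F E).injective
  have : Fintype E := Fintype.ofFinite E
  have hfin : FiniteDimensional F E := Module.Finite.of_finite
  have hq2 : 2 ≤ Nat.card F := Finite.one_lt_card
  by_contra hcon
  set D := ∑ k ∈ Finset.range n, Nat.card F ^ k with hD
  obtain ⟨K, hK1, -, hK3⟩ := exists_sub (F := F) (E := E) (d := 1) (m := n) one_pos (by rw [hn, one_mul])
  have hKbot : K = ⊥ := IntermediateField.finrank_eq_one_iff.1 hK1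
  have hcardE : Fintype.card E = Nat.card F ^ n := by
    rw [← Nat.card_eq_fintype_card, Module.natCard_eq_pow_finrank (K := F) (V := E), hn]
  have hDq : D * (Nat.card F - 1) = Nat.card F ^ n - 1 := by
    rw [hD, Nat.geomSum_eq hq2, Nat.div_mul_cancel]
    have := Nat.sub_dvd_pow_sub_pow (Nat.card F) 1 n
    rwa [one_pow] at this
  have hmem : ∀ b : E, b ^ Nat.card F = b → ∃ c : F, algebraMap F E c = b := by
    intro b hb
    have h3 : b ∈ K := (hK3 b).2 (by rw [pow_one]; exact hb)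
    rw [hKbot, IntermediateField.mem_bot] at h3
    obtain ⟨c, hc⟩ := h3
    exact ⟨c, hc⟩
  have h3 : ∃ c : F, algebraMap F E c = e ^ D := by
    apply hmem
    have h4 : e ^ (D * (Nat.card F - 1)) = 1 := by
      rw [hDq, ← hcardE]
      exact FiniteField.pow_card_sub_one_eq_one e he
    have h5 : Nat.card F = (Nat.card F - 1) + 1 := by omega
    rw [← pow_mul]
    calc e ^ (D * Nat.card F) = e ^ (D * (Nat.card F - 1) + D) := by
          congr 1
          conv_lhs => rw [h5]
          ring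
      _ = e ^ D := by rw [pow_add, h4, one_mul]
  obtain ⟨c, hc⟩ := h3
  have hcop : Nat.Coprime r D := (Nat.Prime.coprime_iff_not_dvd hr).2 hcon
  have h6 := Nat.gcd_eq_gcd_ab r D
  rw [hcop.gcd_eq_one] at h6
  have h7 : e = algebraMap F E (μ ^ r.gcdA D * c ^ r.gcdB D) := by
    have h8 : e ^ ((1 : ℕ) : ℤ) = e ^ ((r : ℤ) * r.gcdA D + (D : ℤ) * r.gcdB D) := by rw [h6]
    rw [zpow_natCast, pow_one, zpow_add₀ he, zpow_mul, zpow_mul, zpow_natCast, zpow_natCast, h1, ← hc] at h8
    rw [map_mul, map_zpow₀, map_zpow₀]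
    exact h8
  exact h2 _ h7.symm

section main

variable {F V G Ω ι : Type} [Field F] [Finite F] [AddCommGroup V] [Module F V] [Module.Finite F V] [Group G] [Finite G]
  [Finite Ω] [Nonempty Ω] [MulAction G Ω] [Finite ι] {N : Subgroup G} {κ : SLV F V →* G} {x : ι → G} {r : ι → ℕ}
  {a : ι → V ≃ₗ[F] V}

/-- box CB (prime degree) -/
theorem no_prime (h : LinCov Ω N κ x r a) (hp : (finrank F V).Prime) (h3 : 3 ≤ finrank F V)
    (hirr : ∀ i, ∀ W : Submodule F V, (∀ w ∈ W, a i w ∈ W) → W = ⊥ ∨ W = ⊤) : False := by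
  classical
  have : Fintype ι := Fintype.ofFinite ι
  have hV : Finite V := Module.finite_of_finite F
  set n := finrank F V with hn
  set q := Nat.card F with hq
  have hq2 : 2 ≤ q := Finite.one_lt_card
  obtain ⟨v₀, hv₀⟩ : ∃ v : V, v ≠ 0 := by
    by_contra hcon
    push Not at hcon
    have : Subsingleton V := ⟨fun a b => by rw [hcon a, hcon b]⟩
    rw [finrank_zero_of_subsingleton] at hn
    omega
  -- at least two members
  have hne : Nonempty ι := by
    obtain ⟨ω⟩ := (inferInstance : Nonempty Ω)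
    obtain ⟨i, -⟩ := h.cov ω
    exact ⟨i⟩
  have h2 : 2 ≤ Fintype.card ι := by
    obtain ⟨i⟩ := hne
    obtain ⟨j, hj⟩ := h.cov.two h.fr.env h.pf.ne i
    exact Fintype.one_lt_card_iff.2 ⟨j, i, hj⟩
  -- the field
  have hirr' : ∀ W : Submodule F V, (∀ i, ∀ w ∈ W, a i w ∈ W) → W = ⊥ ∨ W = ⊤ := by
    intro W hW
    obtain ⟨i⟩ := hne
    exact hirr i W (hW i)
  obtain ⟨E, _, _, _, _, _, e, hE, he⟩ := exists_field h.comm hv₀ hirr'
  have hnE : finrank F E = n := by
    have hFE : FiniteDimensional F E := Module.Finite.of_finite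
    rw [hn, ← Module.finrank_mul_finrank F E V, hE, mul_one]
  set D := ∑ k ∈ Finset.range n, q ^ k with hD
  have hμ : ∀ i, ∃ μ : F, ∀ v, (a i ^ r i) v = μ • v := fun i => pow_scalar h (by omega) i
  have hpow : ∀ (i : ι) (k : ℕ) (v : V), (a i ^ k) v = e i ^ k • v := by
    intro i k
    induction k with
    | zero => intro v; simp
    | succ k ih =>
      intro v
      have e1 : (a i ^ (k + 1)) v = a i ((a i ^ k) v) := by rw [pow_succ']; rfl
      rw [e1, ih, he, smul_smul, pow_succ']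
  have hdv : ∀ i, r i ∣ D := by
    intro i
    obtain ⟨μ, hμ⟩ := hμ i
    refine dvd_sum hnE (h.pf.prime i) (e := e i) (μ := μ) ?_ ?_ ?_
    · intro h0
      have h1 := he i v₀
      rw [h0, zero_smul] at h1
      exact hv₀ ((a i).map_eq_zero_iff.1 h1)
    · have h1 := hμ v₀
      rw [hpow, ← algebraMap_smul E μ, ← sub_eq_zero, ← sub_smul, smul_eq_zero] at h1
      rcases h1 with h1 | h1
      · exact sub_eq_zero.1 h1
      · exact (hv₀ h1).elim
    · intro c hc
      rcases hirr i (Submodule.span F {v₀}) (by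
        intro w hw
        rw [he, ← hc, algebraMap_smul]
        exact Submodule.smul_mem _ _ hw) with h1 | h1
      · have h4 : v₀ ∈ Submodule.span F {v₀} := Submodule.mem_span_singleton_self v₀
        rw [h1] at h4
        exact hv₀ h4
      · have h4 := finrank_span_singleton (K := F) hv₀
        rw [h1, finrank_top] at h4
        omega
  -- minimal degree
  have hd : MinDeg N (q ^ (n - 1) - 1) := by
    let b : Basis (Fin n) F V := Module.finBasis F V
    have h4 : MinDeg (Matrix.SpecialLinearGroup (Fin n) F) (q ^ (n - 1) - 1) := minDeg_SL h3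
    have hr : κ.range = N := h.fr.range
    have h5 : MinDeg κ.range (q ^ (n - 1) - 1) :=
      minDeg_surj h4 (κ.rangeRestrict.comp (slE b).toMonoidHom)
        (κ.rangeRestrict_surjective.comp (slE b).surjective)
    rw [hr] at h5
    exact h5
  have hd0 : 0 < q ^ (n - 1) - 1 := by
    have h4 : 2 ^ 1 ≤ q ^ (n - 1) := (Nat.pow_le_pow_left hq2 1).trans (Nat.pow_le_pow_right (by omega) (by omega))
    omega
  have hDq : D * (q - 1) = q ^ n - 1 := by
    rw [hD, Nat.geomSum_eq hq2, Nat.div_mul_cancel]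
    have := Nat.sub_dvd_pow_sub_pow q 1 n
    rwa [one_pow] at this
  -- centralisers
  have hc : ∀ i, Nat.card {y : linG κ // (y : G) * x i = x i * y} ≤ D * (if r i = n then n else 1) := by
    intro i
    obtain ⟨μ, hμ⟩ := hμ i
    have h4 := card_cent_mul h.fr (by omega) (h.lift i)
    have h5 := card_semi (hirr i) (n := n) rfl (by omega) hp (h.pf.prime i) hμ
    have h6 := h4.trans h5
    rw [← hq, ← hDq] at h6
    have h7 : D * (q - 1) * (if r i = n then n else 1) = D * (if r i = n then n else 1) * (q - 1) := by ring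
    rw [h7] at h6
    exact Nat.le_of_mul_le_mul_right h6 (by omega)
  exact not_cov_env h.fr.env (le_linG h.fr) hd0 hd (fun i => mem_linG.2 ⟨a i, h.lift i⟩) hc
    (num_sum h.pf.inj hq2 hp h3 hD rfl h.pf.prime hdv h2) h.cov

end main

end Cfsg.Agent.H368.RC
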