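import Cfsg.Agent.H917.FP.Chr
import Cfsg.Agent.H106.RC.Cover

/-!
# S3510, shared box CB: the character bound for covers (helper368)

* `card_fix_le` : `N` normal, perfect, every nontrivial irreducible representation of `N` has degree `≥ d`, `N` fixes
  no point of `Ω`: `|Fix x| ≤ (1 / (d + 1) + √|C_G(x)| / d) |Ω|`.
* `card_fix_le_sub` : the same with `|C_H(x)|`, `N ≤ H`, `x ∈ H`.
* `not_cov` : `∑ i, (1 / (d + 1) + √(c i) / d) < 1`, `|C_H(x i)| ≤ c i`: the `x i` are not a cover.
-/

set_option autoImplicit false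

namespace Cfsg.Agent.H368.RC

open Cfsg MulAction Cfsg.Agent.Characters Cfsg.Agent.Characters.Core Cfsg.Agent.H514.DP Cfsg.Agent.H686.CharKit
open Cfsg.Agent.H917.FP (perm_comb index_ge norm_le_sqrt)
open Cfsg.Agent.H106.RC
open scoped ComplexConjugate

universe u v

/-- `MinDeg` and surjections -/
theorem minDeg_surj {S T : Type*} [Group S] [Group T] {d : ℕ} (h : MinDeg S d) (f : S →* T)
    (hf : Function.Surjective f) : MinDeg T d := by
  intro k ρ hρ hk
  refine h k (ρ.comp f) ?_ hk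
  have hnt : Nontrivial (Subrepresentation (ρ.comp f)) := by
    obtain ⟨a, b, hab⟩ := hρ.toNontrivial
    refine ⟨⟨a.toSubmodule, fun g v hv => a.apply_mem_toSubmodule (f g) hv⟩,
      ⟨b.toSubmodule, fun g v hv => b.apply_mem_toSubmodule (f g) hv⟩, fun h => hab ?_⟩
    apply Subrepresentation.toSubmodule_injective
    exact congrArg (Subrepresentation.toSubmodule (ρ := ρ.comp f)) h
  refine ⟨fun a => ?_⟩
  have key : ∀ (g : T) ⦃v : Fin k → ℂ⦄, v ∈ a.toSubmodule → ρ g v ∈ a.toSubmodule := by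
    intro g v hv
    obtain ⟨h, rfl⟩ := hf g
    exact a.apply_mem_toSubmodule h hv
  rcases hρ.eq_bot_or_eq_top ⟨a.toSubmodule, key⟩ with h | h
  · left
    apply Subrepresentation.toSubmodule_injective
    exact congrArg (Subrepresentation.toSubmodule (ρ := ρ)) h
  · right
    apply Subrepresentation.toSubmodule_injective
    exact congrArg (Subrepresentation.toSubmodule (ρ := ρ)) h

theorem perfect_surj {S T : Type*} [Group S] [Group T] (h : commutator S = ⊤) (f : S →* T)
    (hf : Function.Surjective f) : commutator T = ⊤ := by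
  have h1 : (commutator S).map f = commutator T := by
    rw [commutator_def, Subgroup.map_commutator, ← MonoidHom.range_eq_map, MonoidHom.range_eq_top.2 hf,
      commutator_def]
  rw [← h1, h, ← MonoidHom.range_eq_map, MonoidHom.range_eq_top.2 hf]

section Bound

variable {G : Type u} [Group G] {Ω : Type v} [MulAction G Ω]

/-- restriction of an irreducible character to a perfect subgroup: the sum of the values is a multiple of `|N|`, and the
degree is large if the restriction is nontrivial -/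
theorem res_chr [Finite G] {N : Subgroup G} (hperf : commutator N = ⊤) {d : ℕ} (hd : MinDeg N d)
    (χ : IrrCharacter G) [Fintype N] :
    ∃ b : ℕ, ∑ n : N, (χ : G → ℂ) n = (Nat.card N : ℂ) * b ∧
      ((∀ n : N, (χ : G → ℂ) n = (χ : G → ℂ) 1) → (χ : G → ℂ) 1 = b) ∧
      (¬ (∀ n : N, (χ : G → ℂ) n = (χ : G → ℂ) 1) → ∀ k : ℕ, (χ : G → ℂ) 1 = k → d ≤ k) := by
  classical
  have hfi : Fintype (IrrCharacter N) := by
    have := finite_irr (G := N)
    exact Fintype.ofFinite _
  have hcN : (Nat.card N : ℂ) ≠ 0 := card_ne_zero_complex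
  have hchar : IsCharacter N ((χ : G → ℂ) ∘ N.subtype) :=
    isCharacter_comp N.subtype (isIrr_isCharacter χ.2)
  obtain ⟨m, hm⟩ := exists_nat_comb hchar
  set ε : IrrCharacter N := ⟨1, isIrr_one⟩ with hε
  have hval : ∀ n : N, (χ : G → ℂ) n = ∑ ψ : IrrCharacter N, (m ψ : ℂ) * (ψ : N → ℂ) n := by
    intro n
    have h1 := congrFun hm n
    simp only [Finset.sum_apply, nsmul_eq_mul] at h1
    exact h1
  refine ⟨m ε, ?_, ?_, ?_⟩
  · have h1 := classInner_sum_nsmul_irr m ε
    rw [← hm, classInner_def] at h1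
    have h2 : ∑ g : N, ((χ : G → ℂ) ∘ N.subtype) g * conj ((ε : N → ℂ) g) = ∑ n : N, (χ : G → ℂ) n := by
      refine Finset.sum_congr rfl fun g _ => ?_
      change (χ : G → ℂ) g * conj ((1 : N → ℂ) g) = _
      rw [Pi.one_apply, map_one, mul_one]
    rw [h2] at h1
    rw [← h1, ← mul_assoc, mul_inv_cancel₀ hcN, one_mul]
  · intro hc
    have h1 := classInner_sum_nsmul_irr m ε
    rw [← hm, classInner_def] at h1
    have h2 : ∑ g : N, ((χ : G → ℂ) ∘ N.subtype) g * conj ((ε : N → ℂ) g) = (Nat.card N : ℂ) * (χ : G → ℂ) 1 := by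
      rw [Nat.card_eq_fintype_card, ← nsmul_eq_mul, ← Finset.card_univ, ← Finset.sum_const]
      refine Finset.sum_congr rfl fun g _ => ?_
      change (χ : G → ℂ) g * conj ((1 : N → ℂ) g) = _
      rw [Pi.one_apply, map_one, mul_one, hc]
    rw [h2, ← mul_assoc, inv_mul_cancel₀ hcN, one_mul] at h1
    exact h1
  · intro hc k hk
    -- some nontrivial constituent
    have hex : ∃ ψ : IrrCharacter N, ψ ≠ ε ∧ m ψ ≠ 0 := by
      by_contra hno
      push Not at hno
      apply hc
      intro n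
      have h3 : ∀ n : N, (χ : G → ℂ) n = (m ε : ℂ) := by
        intro n
        rw [hval, Finset.sum_eq_single ε]
        · have : (ε : N → ℂ) n = 1 := rfl
          rw [this, mul_one]
        · intro ψ _ hψ
          rw [hno ψ hψ]
          simp
        · intro h
          exact (h (Finset.mem_univ _)).elim
      have h4 := h3 1
      rw [Subgroup.coe_one] at h4
      rw [h3, h4]
    obtain ⟨ψ, hψ, hψm⟩ := hex
    choose dg hdg0 hdg using fun ψ : IrrCharacter N => isIrr_apply_one ψ.2
    have hψ1 : (ψ : N → ℂ) 1 ≠ 1 := fun h3 => hψ (Subtype.ext (eq_one_of_perf hperf ψ.2 h3))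
    obtain ⟨n, hn, -, hn1⟩ := MinDeg.le hd ψ.2 hψ1
    have h5 : dg ψ = n := by
      have := hdg ψ
      rw [hn1] at this
      exact_mod_cast this.symm
    have h6 : k = ∑ ψ : IrrCharacter N, m ψ * dg ψ := by
      have h7 := hval 1
      rw [Subgroup.coe_one, hk] at h7
      have h8 : (k : ℂ) = ((∑ ψ : IrrCharacter N, m ψ * dg ψ : ℕ) : ℂ) := by
        rw [h7]
        push_cast
        exact Finset.sum_congr rfl fun ψ _ => by rw [hdg ψ]
      exact_mod_cast h8
    rw [h6]
    refine le_trans ?_ (Finset.single_le_sum (f := fun ψ => m ψ * dg ψ) (fun _ _ => Nat.zero_le _) (Finset.mem_univ ψ))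
    rw [← h5] at hn
    exact hn.trans (Nat.le_mul_of_pos_left _ (Nat.pos_of_ne_zero hψm))

/-- **the character bound** -/
theorem card_fix_le [Finite G] [Finite Ω] (N : Subgroup G) [N.Normal] (hperf : commutator N = ⊤) {d : ℕ} (hd0 : 0 < d)
    (hd : MinDeg N d) (hnofix : ∀ ω : Ω, ¬ N ≤ stabilizer G ω) (x : G) :
    (Nat.card (fixedBy Ω x) : ℝ) ≤ (1 / ((d : ℝ) + 1) +
      √(Nat.card (Subgroup.centralizer ({x} : Set G)) : ℝ) / d) * Nat.card Ω := by
  classical
  have : Fintype G := Fintype.ofFinite G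
  have : Fintype N := Fintype.ofFinite N
  have : Fintype Ω := Fintype.ofFinite Ω
  have : Fintype (IrrCharacter G) := by
    have := finite_irr (G := G)
    exact Fintype.ofFinite _
  set s : ℝ := √(Nat.card (Subgroup.centralizer ({x} : Set G)) : ℝ) with hs
  have hs0 : 0 ≤ s := Real.sqrt_nonneg _
  have hdR : (0 : ℝ) < d := by exact_mod_cast hd0
  have hNpos : (0 : ℝ) < Nat.card N := by exact_mod_cast Nat.card_pos
  have hcN : (Nat.card N : ℂ) ≠ 0 := card_ne_zero_complex
  obtain ⟨m, dg, hm, hdg, hdg0, hsum, -⟩ := perm_comb (S := G) (Ω := Ω)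
  choose b hb1 hb2 hb3 using fun χ : IrrCharacter G => res_chr hperf hd χ
  let A : Finset (IrrCharacter G) := Finset.univ.filter fun χ => ∀ n : N, (χ : G → ℂ) n = (χ : G → ℂ) 1
  let B : Finset (IrrCharacter G) := Finset.univ.filter fun χ => ¬ ∀ n : N, (χ : G → ℂ) n = (χ : G → ℂ) 1
  have hAB : ∀ (f : IrrCharacter G → ℝ), ∑ χ : IrrCharacter G, f χ = ∑ χ ∈ A, f χ + ∑ χ ∈ B, f χ := fun f =>
    (Finset.sum_filter_add_sum_filter_not _ _ _).symm
  -- the first part
  have hA : ∑ χ ∈ A, (m χ : ℝ) * dg χ ≤ (Nat.card Ω : ℝ) / ((d : ℝ) + 1) := by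
    have h1 : (∑ n : N, Nat.card (fixedBy Ω (n : G))) = Nat.card N * ∑ χ : IrrCharacter G, m χ * b χ := by
      have h2 : ((∑ n : N, Nat.card (fixedBy Ω (n : G)) : ℕ) : ℂ) =
          ((Nat.card N * ∑ χ : IrrCharacter G, m χ * b χ : ℕ) : ℂ) := by
        push_cast
        rw [Finset.mul_sum]
        simp only [hm]
        rw [Finset.sum_comm]
        refine Finset.sum_congr rfl fun χ _ => ?_
        rw [← Finset.mul_sum, hb1]
        ring
      exact_mod_cast h2
    have h6 : (∑ n : N, Nat.card (fixedBy Ω (n : G))) = ∑ w : Ω, Nat.card (stabilizer N w) := by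
      have e1 : ∀ g : N, Nat.card (fixedBy Ω (g : G)) = ∑ w : Ω, if (g : G) • w = w then 1 else 0 := by
        intro g
        rw [Nat.card_eq_fintype_card, Fintype.card_subtype, Finset.card_filter]
        rfl
      have e2 : ∀ w : Ω, Nat.card (stabilizer N w) = ∑ g : N, if (g : G) • w = w then 1 else 0 := by
        intro w
        rw [Nat.card_eq_fintype_card, Fintype.card_subtype, Finset.card_filter]
        rfl
      simp only [e1, e2]
      exact Finset.sum_comm
    have h2 : ∀ w : Ω, (Nat.card (stabilizer N w) : ℝ) ≤ (1 / ((d : ℝ) + 1)) * Nat.card N := by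
      intro w
      have h3 : stabilizer N w ≠ ⊤ := by
        intro h
        apply hnofix w
        intro a ha
        have : (⟨a, ha⟩ : N) ∈ stabilizer N w := by rw [h]; trivial
        exact this
      have h4 := index_ge hperf hd h3
      have h5 := Subgroup.index_mul_card (stabilizer N w)
      have h6 : ((d : ℝ) + 1) * (Nat.card (stabilizer N w) : ℝ) ≤ Nat.card N := by
        rw [← h5]
        push_cast
        have : ((d : ℝ) + 1) ≤ ((stabilizer N w).index : ℝ) := by exact_mod_cast h4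
        nlinarith [this, (Nat.cast_nonneg (Nat.card (stabilizer N w)) : (0 : ℝ) ≤ _)]
      rw [div_mul_eq_mul_div, one_mul, le_div_iff₀ (by positivity)]
      linarith
    have h7 : (Nat.card N : ℝ) * ∑ χ ∈ A, (m χ : ℝ) * dg χ ≤ (Nat.card N : ℝ) * ((Nat.card Ω : ℝ) / ((d : ℝ) + 1)) := by
      calc (Nat.card N : ℝ) * ∑ χ ∈ A, (m χ : ℝ) * dg χ
          = (Nat.card N : ℝ) * ∑ χ ∈ A, (m χ : ℝ) * b χ := by
            congr 1
            refine Finset.sum_congr rfl fun χ hχ => ?_
            have h8 := hb2 χ (Finset.mem_filter.1 hχ).2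
            rw [hdg] at h8
            have h9 : dg χ = b χ := by exact_mod_cast h8
            rw [h9]
        _ ≤ (Nat.card N : ℝ) * ∑ χ : IrrCharacter G, (m χ : ℝ) * b χ := by
            refine mul_le_mul_of_nonneg_left ?_ hNpos.le
            exact Finset.sum_le_sum_of_subset_of_nonneg (Finset.subset_univ _) fun _ _ _ => by positivity
        _ = ((∑ n : N, Nat.card (fixedBy Ω (n : G)) : ℕ) : ℝ) := by
            rw [h1]
            push_cast
            rfl
        _ = ∑ w : Ω, (Nat.card (stabilizer N w) : ℝ) := by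
            rw [h6]
            push_cast
            rfl
        _ ≤ ∑ _w : Ω, (1 / ((d : ℝ) + 1)) * Nat.card N := Finset.sum_le_sum fun w _ => h2 w
        _ = (Nat.card N : ℝ) * ((Nat.card Ω : ℝ) / ((d : ℝ) + 1)) := by
            rw [Finset.sum_const, Finset.card_univ, nsmul_eq_mul, Nat.card_eq_fintype_card (α := Ω)]
            ring
    exact le_of_mul_le_mul_left h7 hNpos
  -- the second part
  have hB : (∑ χ ∈ B, (m χ : ℝ)) * d ≤ (Nat.card Ω : ℝ) := by
    rw [hsum, Finset.sum_mul]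
    push_cast
    rw [hAB fun χ => (m χ : ℝ) * dg χ]
    have h1 : ∑ χ ∈ B, (m χ : ℝ) * d ≤ ∑ χ ∈ B, (m χ : ℝ) * dg χ := by
      refine Finset.sum_le_sum fun χ hχ => ?_
      refine mul_le_mul_of_nonneg_left ?_ (Nat.cast_nonneg _)
      exact_mod_cast hb3 χ (Finset.mem_filter.1 hχ).2 (dg χ) (hdg χ)
    have h2 : 0 ≤ ∑ χ ∈ A, (m χ : ℝ) * dg χ := Finset.sum_nonneg fun _ _ => by positivity
    linarith
  -- the bound
  have hfix : (Nat.card (fixedBy Ω x) : ℝ) ≤ ∑ χ ∈ A, (m χ : ℝ) * dg χ + s * ∑ χ ∈ B, (m χ : ℝ) := by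
    have h3 : ‖((Nat.card (fixedBy Ω x) : ℕ) : ℂ)‖ ≤ ∑ χ ∈ A, (m χ : ℝ) * dg χ + s * ∑ χ ∈ B, (m χ : ℝ) := by
      rw [hm x]
      refine (norm_sum_le _ _).trans ?_
      rw [hAB, Finset.mul_sum]
      refine add_le_add (Finset.sum_le_sum fun χ _ => ?_) (Finset.sum_le_sum fun χ _ => ?_)
      · rw [norm_mul, Complex.norm_natCast]
        exact mul_le_mul_of_nonneg_left (SchurBound.norm_le (isIrr_isCharacter χ.2) (hdg χ) x)
          (Nat.cast_nonneg _)
      · rw [norm_mul, Complex.norm_natCast, mul_comm]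
        exact mul_le_mul_of_nonneg_right (norm_le_sqrt χ x) (Nat.cast_nonneg _)
    rwa [Complex.norm_natCast] at h3
  have h5 : s * ∑ χ ∈ B, (m χ : ℝ) ≤ s / d * Nat.card Ω := by
    rw [div_mul_eq_mul_div, le_div_iff₀ hdR, mul_assoc]
    exact mul_le_mul_of_nonneg_left hB hs0
  rw [add_mul, div_mul_eq_mul_div, one_mul]
  linarith

/-- the character bound inside a subgroup -/
theorem card_fix_le_sub [Finite G] [Finite Ω] {N H : Subgroup G} (hN : N.Normal) (hNH : N ≤ H)
    (hperf : commutator N = ⊤) {d : ℕ} (hd0 : 0 < d) (hd : MinDeg N d)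
    (hnofix : ∀ ω : Ω, ¬ N ≤ stabilizer G ω) {x : G} (hx : x ∈ H) {c : ℕ}
    (hc : Nat.card {y : H // (y : G) * x = x * y} ≤ c) :
    (Nat.card (fixedBy Ω x) : ℝ) ≤ (1 / ((d : ℝ) + 1) + √(c : ℝ) / d) * Nat.card Ω := by
  have hN' : (N.subgroupOf H).Normal := Subgroup.normal_subgroupOf
  have hdR : (0 : ℝ) < d := by exact_mod_cast hd0
  let e : N.subgroupOf H ≃* N := Subgroup.subgroupOfEquivOfLe hNH
  have h1 := card_fix_le (Ω := Ω) (N.subgroupOf H) (perfect_surj hperf e.symm.toMonoidHom e.symm.surjective) hd0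
    (minDeg_surj hd e.symm.toMonoidHom e.symm.surjective) (by
      intro ω hle
      apply hnofix ω
      intro n hn
      have h2 : (⟨n, hNH hn⟩ : H) ∈ stabilizer H ω := hle (by rwa [Subgroup.mem_subgroupOf])
      exact h2) (⟨x, hx⟩ : H)
  have h2 : Nat.card (Subgroup.centralizer ({(⟨x, hx⟩ : H)} : Set H)) =
      Nat.card {y : H // (y : G) * x = x * y} := by
    refine Nat.card_congr (Equiv.subtypeEquivRight fun y => ?_)
    rw [Subgroup.mem_centralizer_singleton_iff]
    constructor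
    · intro h
      exact congrArg Subtype.val h
    · intro h
      exact Subtype.ext h
  have h3 : (Nat.card (Subgroup.centralizer ({(⟨x, hx⟩ : H)} : Set H)) : ℝ) ≤ c := by
    rw [h2]
    exact_mod_cast hc
  have h4 : Nat.card (fixedBy Ω (⟨x, hx⟩ : H)) = Nat.card (fixedBy Ω x) :=
    Nat.card_congr (Equiv.subtypeEquivRight fun y => Iff.rfl)
  rw [h4] at h1
  refine h1.trans ?_
  refine mul_le_mul_of_nonneg_right ?_ (Nat.cast_nonneg _)
  have h5 := Real.sqrt_le_sqrt h3
  have h6 := div_le_div_of_nonneg_right h5 hdR.le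
  linarith

end Bound

/-- **not a cover**: the numerical criterion -/
theorem not_cov {G : Type u} {Ω : Type v} {ι : Type*} [Group G] [MulAction G Ω] [Finite G] [Finite Ω] [Nonempty Ω]
    [Fintype ι] {N H : Subgroup G} (hN : N.Normal) (hNH : N ≤ H)
    (hperf : commutator N = ⊤) {d : ℕ} (hd0 : 0 < d) (hd : MinDeg N d)
    (hnofix : ∀ ω : Ω, ¬ N ≤ stabilizer G ω) {x : ι → G} (hx : ∀ i, x i ∈ H) {c : ι → ℕ}
    (hc : ∀ i, Nat.card {y : H // (y : G) * x i = x i * y} ≤ c i)
    (hsum : ∑ i, (1 / ((d : ℝ) + 1) + √(c i : ℝ) / d) < 1) : ¬ Cov Ω x := by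
  classical
  intro hcov
  have : Fintype Ω := Fintype.ofFinite Ω
  have hpos : (0 : ℝ) < Nat.card Ω := by exact_mod_cast Nat.card_pos
  have h1 : (Nat.card Ω : ℝ) ≤ ∑ i, (Nat.card (fixedBy Ω (x i)) : ℝ) := by
    have h2 : Nat.card Ω ≤ ∑ i, Nat.card (fixedBy Ω (x i)) := by
      have e1 : ∀ i, Nat.card (fixedBy Ω (x i)) = (Finset.univ.filter fun ω : Ω => x i • ω = ω).card := by
        intro i
        rw [Nat.card_eq_fintype_card, Fintype.card_subtype]
        rfl
      simp only [e1]
      refine le_trans ?_ Finset.card_biUnion_le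
      rw [Nat.card_eq_fintype_card, ← Finset.card_univ]
      refine Finset.card_le_card ?_
      intro ω _
      obtain ⟨i, hi⟩ := hcov ω
      exact Finset.mem_biUnion.2 ⟨i, Finset.mem_univ _, Finset.mem_filter.2 ⟨Finset.mem_univ _, hi⟩⟩
    exact_mod_cast h2
  have h3 : ∑ i, (Nat.card (fixedBy Ω (x i)) : ℝ) ≤
      ∑ i, (1 / ((d : ℝ) + 1) + √(c i : ℝ) / d) * Nat.card Ω :=
    Finset.sum_le_sum fun i _ => card_fix_le_sub hN hNH hperf hd0 hd hnofix (hx i) (hc i)
  rw [← Finset.sum_mul] at h3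
  nlinarith

/-- a simple noncommutative group is perfect -/
theorem perfect_of_simple {N : Type*} [Group N] (hs : IsSimpleGroup N) (hc : ¬ IsMulCommutative N) :
    commutator N = ⊤ := by
  rcases hs.eq_bot_or_eq_top_of_normal (commutator N) inferInstance with h | h
  · exfalso
    apply hc
    constructor; constructor
    intro a b
    have h1 : a * b * a⁻¹ * b⁻¹ ∈ commutator N := by
      rw [commutator_def]
      exact Subgroup.commutator_mem_commutator (Subgroup.mem_top a) (Subgroup.mem_top b)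
    rw [h, Subgroup.mem_bot] at h1
    calc a * b = (a * b * a⁻¹ * b⁻¹) * (b * a) := by group
      _ = b * a := by rw [h1, one_mul]
  · exact h

/-- the criterion in the environment of the rows -/
theorem not_cov_env {G : Type u} {Ω : Type v} {ι : Type*} [Group G] [MulAction G Ω] [Finite G] [Finite Ω] [Nonempty Ω]
    [Fintype ι] {N : Subgroup G} (hE : Env G Ω N) {H : Subgroup G} (hNH : N ≤ H)
    {d : ℕ} (hd0 : 0 < d) (hd : MinDeg N d) {x : ι → G} (hx : ∀ i, x i ∈ H) {c : ι → ℕ}
    (hc : ∀ i, Nat.card {y : H // (y : G) * x i = x i * y} ≤ c i)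
    (hsum : ∑ i, (1 / ((d : ℝ) + 1) + √(c i : ℝ) / d) < 1) : ¬ Cov Ω x :=
  not_cov hE.norm hNH (perfect_of_simple hE.simple hE.ncomm) hd0 hd hE.nofix hx hc hsum

end Cfsg.Agent.H368.RC
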